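import Groth.Agent.IndAlg.EtaleLift
import Mathlib.RingTheory.RingHom.Etale
import Mathlib.RingTheory.RingHom.StandardSmooth

/-!
Smooth and étale algebras over a quotient ring lift to the ring, with the base change universal
property.
-/

universe u

namespace Groth.Agent.LiftClosed

open MvPolynomial

/-- Inverting the Jacobian of a presentation gives a standard smooth algebra. -/
theorem standardSmooth_away_jacobian {A S : Type u} [CommRing A] [CommRing S] [Algebra A S]
    {ι σ : Type} [Finite σ] [Finite ι] (P : Algebra.PreSubmersivePresentation A S ι σ) :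
    Algebra.IsStandardSmooth A (Localization.Away P.jacobian) := by
  let Q : Algebra.SubmersivePresentation A (Localization.Away P.jacobian) (Unit ⊕ ι) (Unit ⊕ σ) :=
    { (Algebra.PreSubmersivePresentation.localizationAway (Localization.Away P.jacobian) P.jacobian).comp P with
      jacobian_isUnit := by
        rw [Algebra.PreSubmersivePresentation.comp_jacobian_eq_jacobian_smul_jacobian,
          Algebra.smul_def, IsUnit.mul_iff, Algebra.PreSubmersivePresentation.localizationAway_jacobian]
        exact ⟨IsLocalization.Away.algebraMap_isUnit _, IsLocalization.Away.algebraMap_isUnit _⟩ }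
  exact Q.isStandardSmooth

set_option maxHeartbeats 800000 in
/-- A standard smooth `A/I`-algebra is the reduction of a standard smooth `A`-algebra. -/
theorem exists_lift_standardSmooth (A : Type u) [CommRing A] (I : Ideal A) (B : Type u) [CommRing B]
    [Algebra (A ⧸ I) B] [Algebra A B] [IsScalarTower A (A ⧸ I) B]
    [Algebra.IsStandardSmooth (A ⧸ I) B] :
    ∃ (C : Type u) (_ : CommRing C) (_ : Algebra A C), Algebra.IsStandardSmooth A C ∧
      Nonempty ((C ⧸ I.map (algebraMap A C)) ≃ₐ[A] B) := by
  classical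
  obtain ⟨ι, σ, hσ, hι, ⟨P⟩⟩ := Algebra.IsStandardSmooth.out (R := A ⧸ I) (S := B)
  choose v hv using fun j : σ =>
    MvPolynomial.map_surjective (σ := ι) (Ideal.Quotient.mk I) Ideal.Quotient.mk_surjective (P.relation j)
  let P1 := Algebra.PreSubmersivePresentation.naive (v := v) P.map P.map_inj
    (Function.surjInv (Ideal.Quotient.mk_surjective (I := Ideal.span (Set.range v))))
    (Function.surjInv_eq _)
  have hval : ∀ i, P1.val i = Ideal.Quotient.mk _ (X i) := fun i => rfl
  have hrel1 : ∀ j, P1.relation j = v j := fun j => rfl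
  obtain ⟨ψ1, hψ1, hjac⟩ := IndAlg.EtaleLift.exists_lift_aux I P v hv P1 hval hrel1 rfl
  obtain ⟨d, hd⟩ : ∃ d, P1.jacobian = d := ⟨_, rfl⟩
  rw [hd] at hjac
  have hC : Algebra.IsStandardSmooth A (Localization.Away d) := hd ▸ standardSmooth_away_jacobian P1
  let S1 := MvPolynomial ι A ⧸ Ideal.span (Set.range v)
  let ψ : Localization.Away d →ₐ[A] B :=
    { IsLocalization.Away.lift (S := Localization.Away d) d (g := ψ1.toRingHom) hjac with
      commutes' := fun a => (IsLocalization.Away.lift_eq d hjac (algebraMap A S1 a)).trans (ψ1.commutes a) }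
  let l : S1 →ₐ[A] Localization.Away d := IsScalarTower.toAlgHom A S1 (Localization.Away d)
  let q : MvPolynomial ι A →ₐ[A] Localization.Away d :=
    l.comp (Ideal.Quotient.mkₐ A (Ideal.span (Set.range v)))
  have hψq : ∀ i, ψ (q (X i)) = P.val i := fun i =>
    (IsLocalization.Away.lift_eq d hjac _).trans (hψ1 i)
  have hqv : ∀ j, q (v j) = 0 := fun j => by
    show l (Ideal.Quotient.mk _ (v j)) = 0
    rw [Ideal.Quotient.eq_zero_iff_mem.2 (Ideal.subset_span (Set.mem_range_self j)), map_zero]
  refine ⟨Localization.Away d, inferInstance, inferInstance, hC,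
    IndAlg.EtaleLift.nonempty_equiv I P.toPresentation v hv ψ q hψq hqv fun f g hfg => ?_⟩
  refine IsLocalization.algHom_ext (Submonoid.powers d) ?_
  refine Ideal.Quotient.algHom_ext A ?_
  exact MvPolynomial.algHom_ext (R := A) hfg

/-- The conclusion of the lifting: an algebra over `A` with reduction `B`. -/
def HasLift (P : ∀ {R S : Type u} [CommRing R] [CommRing S], (R →+* S) → Prop) {A A₀ B : Type u}
    [CommRing A] [CommRing A₀] [CommRing B] (p : A →+* A₀) (m : A₀ →+* B) : Prop :=
  ∃ (C : Type u) (_ : CommRing C) (j : A →+* C) (e : C →+* B), P j ∧ e.comp j = m.comp p ∧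
    ∀ (T : Type u) [CommRing T] (c : C →+* T) (b : A₀ →+* T),
      c.comp j = b.comp p → ∃ β : B →+* T, β.comp m = b

theorem hasLift_of_lift {A A₀ B : Type u} [CommRing A] [CommRing A₀] [CommRing B]
    {P : ∀ {R S : Type u} [CommRing R] [CommRing S], (R →+* S) → Prop}
    (p : A →+* A₀) (hp : Function.Surjective p) (m : A₀ →+* B)
    (C : Type u) [CommRing C] [Algebra A C] (hP : P (algebraMap A C))
    (ε : (C ⧸ (RingHom.ker p).map (algebraMap A C)) ≃+* B)
    (hε : ∀ a, ε (Ideal.Quotient.mk _ (algebraMap A C a)) = m (p a)) : HasLift P p m := by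
  refine ⟨C, inferInstance, algebraMap A C, ε.toRingHom.comp (Ideal.Quotient.mk _), hP,
    RingHom.ext hε, fun T _ c b h => ?_⟩
  have hI : (RingHom.ker p).map (algebraMap A C) ≤ RingHom.ker c := by
    rw [Ideal.map_le_iff_le_comap]
    intro a ha
    rw [Ideal.mem_comap, RingHom.mem_ker, ← RingHom.comp_apply, h, RingHom.comp_apply,
      RingHom.mem_ker.1 ha, map_zero]
  refine ⟨(Ideal.Quotient.lift _ c fun x hx => RingHom.mem_ker.1 (hI hx)).comp ε.symm.toRingHom, RingHom.ext fun x => ?_⟩
  obtain ⟨a, rfl⟩ := hp x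
  show Ideal.Quotient.lift _ c (fun x hx => RingHom.mem_ker.1 (hI hx)) (ε.symm (m (p a))) = b (p a)
  rw [← hε, ε.symm_apply_apply, Ideal.Quotient.lift_mk]
  exact RingHom.congr_fun h a

theorem hasLift_standardSmooth {A A₀ B : Type u} [CommRing A] [CommRing A₀] [CommRing B]
    (p : A →+* A₀) (hp : Function.Surjective p) (m : A₀ →+* B) (hm : m.IsStandardSmooth) :
    HasLift (fun {R S} _ _ f => RingHom.Smooth f) p m := by
  let φ := RingHom.quotientKerEquivOfSurjective hp
  letI : Algebra (A ⧸ RingHom.ker p) B := (m.comp φ.toRingHom).toAlgebra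
  letI : Algebra A B := (m.comp p).toAlgebra
  haveI : IsScalarTower A (A ⧸ RingHom.ker p) B := IsScalarTower.of_algebraMap_eq fun a => by
    show m (p a) = m (φ (Ideal.Quotient.mk _ a))
    rw [RingHom.quotientKerEquivOfSurjective_apply_mk]
  haveI : Algebra.IsStandardSmooth (A ⧸ RingHom.ker p) B :=
    (RingHom.isStandardSmooth_respectsIso.right m φ hm : (m.comp φ.toRingHom).IsStandardSmooth)
  obtain ⟨C, hC₁, hC₂, hC, ⟨ε⟩⟩ := exists_lift_standardSmooth A (RingHom.ker p) B
  exact hasLift_of_lift p hp m C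
    (RingHom.smooth_algebraMap.2 inferInstance) ε.toRingEquiv fun a => ε.commutes a

theorem hasLift_etale {A A₀ B : Type u} [CommRing A] [CommRing A₀] [CommRing B]
    (p : A →+* A₀) (hp : Function.Surjective p) (m : A₀ →+* B) (hm : m.Etale) :
    HasLift (fun {R S} _ _ f => RingHom.Etale f) p m := by
  let φ := RingHom.quotientKerEquivOfSurjective hp
  letI : Algebra (A ⧸ RingHom.ker p) B := (m.comp φ.toRingHom).toAlgebra
  letI : Algebra A B := (m.comp p).toAlgebra
  haveI : IsScalarTower A (A ⧸ RingHom.ker p) B := IsScalarTower.of_algebraMap_eq fun a => by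
    show m (p a) = m (φ (Ideal.Quotient.mk _ a))
    rw [RingHom.quotientKerEquivOfSurjective_apply_mk]
  haveI : Algebra.Etale (A ⧸ RingHom.ker p) B :=
    (RingHom.Etale.respectsIso.right m φ hm : (m.comp φ.toRingHom).Etale)
  obtain ⟨C, hC₁, hC₂, hC, ⟨ε⟩⟩ := IndAlg.EtaleLift.exists_lift A (RingHom.ker p) B
  exact hasLift_of_lift p hp m C (RingHom.etale_algebraMap.2 hC) ε.toRingEquiv fun a => ε.commutes a

end Groth.Agent.LiftClosed
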