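import Groth.Agent.LiftClosed.Ring
import Groth.Agent.Chow.Coords
import Groth.Prelude.Def_BigSite
import Mathlib.AlgebraicGeometry.Morphisms.Smooth
import Mathlib.RingTheory.Smooth.StandardSmoothOfFree

/-!
Étale and smooth morphisms to a closed subscheme lift locally; pullback along a closed immersion is
almost cocontinuous for the étale and smooth topologies.
-/

universe u

open CategoryTheory CategoryTheory.Limits AlgebraicGeometry

namespace Groth.Agent.LiftClosed

/-- A local lift of `u` along `q` at `z`. -/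
def HasLocalLift (P : MorphismProperty Scheme.{u}) {W V U : Scheme.{u}} (q : W ⟶ V) (u : U ⟶ W)
    (z : U) : Prop :=
  ∃ (Z : Scheme.{u}) (g : Z ⟶ V) (h : pullback q g ⟶ U),
    P g ∧ h ≫ u = pullback.fst q g ∧ q (u z) ∈ Set.range g

theorem hasLocalLift_of_ring {P : MorphismProperty Scheme.{u}}
    {Q : ∀ {R S : Type u} [CommRing R] [CommRing S], (R →+* S) → Prop}
    (hQP : ∀ {R S : Type u} [CommRing R] [CommRing S] (f : R →+* S) {V : Scheme.{u}}
      (i : Spec (CommRingCat.of R) ⟶ V) [IsOpenImmersion i], Q f →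
      P (Spec.map (CommRingCat.ofHom f) ≫ i))
    {W V U : Scheme.{u}} (q : W ⟶ V) (u : U ⟶ W) (z : U)
    {A A₀ B : Type u} [CommRing A] [CommRing A₀] [CommRing B] (p : A →+* A₀) (m : A₀ →+* B)
    (iA : Spec (CommRingCat.of A) ⟶ V) [IsOpenImmersion iA]
    (iA₀ : Spec (CommRingCat.of A₀) ⟶ W) [IsOpenImmersion iA₀]
    (iB : Spec (CommRingCat.of B) ⟶ U)
    (hp : Spec.map (CommRingCat.ofHom p) ≫ iA = iA₀ ≫ q)
    (hm : Spec.map (CommRingCat.ofHom m) ≫ iA₀ = iB ≫ u)
    (hrange : Set.range iA₀ = q ⁻¹' Set.range iA) (hz : z ∈ Set.range iB)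
    (hl : HasLift @Q p m) : HasLocalLift P q u z := by
  obtain ⟨C, hC, j, e, hj, hej, huniv⟩ := hl
  let g := Spec.map (CommRingCat.ofHom j) ≫ iA
  let a : pullback q g ⟶ Spec (CommRingCat.of C) := pullback.snd q g
  have hw : pullback.fst q g ≫ q = (a ≫ Spec.map (CommRingCat.ofHom j)) ≫ iA := by
    rw [pullback.condition, Category.assoc]
  have hrb : Set.range (pullback.fst q g) ⊆ Set.range iA₀ := by
    rintro _ ⟨t, rfl⟩
    rw [hrange]
    refine ⟨(a ≫ Spec.map (CommRingCat.ofHom j)) t, ?_⟩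
    rw [← Scheme.Hom.comp_apply, ← hw, Scheme.Hom.comp_apply]
  let b : pullback q g ⟶ Spec (CommRingCat.of A₀) := IsOpenImmersion.lift iA₀ (pullback.fst q g) hrb
  have hb : b ≫ iA₀ = pullback.fst q g := IsOpenImmersion.lift_fac _ _ _
  have hab : a ≫ Spec.map (CommRingCat.ofHom j) = b ≫ Spec.map (CommRingCat.ofHom p) := by
    rw [← cancel_mono iA, ← hw, Category.assoc, hp, ← Category.assoc, hb]
  have hcj : (Chow.specHom a).comp j = (Chow.specHom b).comp p := by
    apply Chow.toSpecΓ_SpecMap_injective (C := CommRingCat.of A)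
    simp only [CommRingCat.ofHom_comp, Spec.map_comp, ← Category.assoc, Chow.toSpecΓ_specHom]
    exact hab
  obtain ⟨β, hβ⟩ := huniv _ (Chow.specHom a) (Chow.specHom b) hcj
  refine ⟨Spec (CommRingCat.of C), g,
    (pullback q g).toSpecΓ ≫ Spec.map (CommRingCat.ofHom β) ≫ iB, hQP j iA hj, ?_, ?_⟩
  · rw [Category.assoc, Category.assoc, ← hm, ← Spec.map_comp_assoc, ← CommRingCat.ofHom_comp, hβ,
      ← Category.assoc, Chow.toSpecΓ_specHom, hb]
  · obtain ⟨y, rfl⟩ := hz
    refine ⟨Spec.map (CommRingCat.ofHom e) y, ?_⟩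
    have h : Spec.map (CommRingCat.ofHom e) ≫ g = iB ≫ u ≫ q := by
      rw [← Category.assoc iB, ← hm, Category.assoc, ← hp]
      simp only [g, ← Category.assoc, ← Spec.map_comp, ← CommRingCat.ofHom_comp, hej]
    rw [← Scheme.Hom.comp_apply, h]
    rfl

theorem exists_affines {W V U : Scheme.{u}} (q : W ⟶ V) [IsAffineHom q] (u : U ⟶ W) (z : U) :
    ∃ (A : V.Opens) (_ : IsAffineOpen A) (U₁ : U.Opens) (_ : IsAffineOpen U₁),
      z ∈ U₁ ∧ U₁ ≤ u ⁻¹ᵁ (q ⁻¹ᵁ A) := by
  obtain ⟨A, hA, hxA, -⟩ := exists_isAffineOpen_mem_and_subset (X := V) (x := q (u z)) (U := ⊤) trivial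
  obtain ⟨U₁, hU₁, hzU, hle⟩ := exists_isAffineOpen_mem_and_subset (X := U) (x := z)
    (U := u ⁻¹ᵁ (q ⁻¹ᵁ A)) hxA
  exact ⟨A, hA, U₁, hU₁, hzU, hle⟩

theorem SpecMap_app_fromSpec {W V : Scheme.{u}} (q : W ⟶ V) {A : V.Opens} (hA : IsAffineOpen A)
    (hA₀ : IsAffineOpen (q ⁻¹ᵁ A)) : Spec.map (q.app A) ≫ hA.fromSpec = hA₀.fromSpec ≫ q := by
  rw [Scheme.Hom.app_eq_appLE]
  exact IsAffineOpen.SpecMap_appLE_fromSpec q hA hA₀ le_rfl

theorem range_fromSpec_preimage {W V : Scheme.{u}} (q : W ⟶ V) {A : V.Opens} (hA : IsAffineOpen A)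
    (hA₀ : IsAffineOpen (q ⁻¹ᵁ A)) :
    Set.range hA₀.fromSpec = q ⁻¹' Set.range hA.fromSpec := by
  rw [hA₀.range_fromSpec, hA.range_fromSpec]
  rfl

theorem hasLocalLift_etale {W V U : Scheme.{u}} (q : W ⟶ V) [IsClosedImmersion q] (u : U ⟶ W)
    [Etale u] (z : U) : HasLocalLift @Etale q u z := by
  obtain ⟨A, hA, U₁, hU₁, hzU, hle⟩ := exists_affines q u z
  have hA₀ : IsAffineOpen (q ⁻¹ᵁ A) := hA.preimage q
  refine hasLocalLift_of_ring (Q := fun {R S} _ _ f => RingHom.Etale f) ?_ q u z (q.app A).hom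
    (u.appLE (q ⁻¹ᵁ A) U₁ hle).hom hA.fromSpec hA₀.fromSpec hU₁.fromSpec
    (SpecMap_app_fromSpec q hA hA₀) (IsAffineOpen.SpecMap_appLE_fromSpec u hA₀ hU₁ hle)
    (range_fromSpec_preimage q hA hA₀) (by rw [hU₁.range_fromSpec]; exact hzU)
    (hasLift_etale _ (q.app_surjective A hA) _ (u.etale_appLE hA₀ hU₁ hle))
  intro R S _ _ f V i _ hf
  haveI : Etale (Spec.map (CommRingCat.ofHom f)) :=
    (HasRingHomProperty.Spec_iff (P := @Etale)).2 hf
  infer_instance

theorem hasLocalLift_smooth {W V U : Scheme.{u}} (q : W ⟶ V) [IsClosedImmersion q] (u : U ⟶ W)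
    [Smooth u] (z : U) : HasLocalLift @Smooth q u z := by
  obtain ⟨A, hA, U₁, hU₁, hzU, hle⟩ := exists_affines q u z
  have hA₀ : IsAffineOpen (q ⁻¹ᵁ A) := hA.preimage q
  let m₀ := (u.appLE (q ⁻¹ᵁ A) U₁ hle).hom
  letI := m₀.toAlgebra
  haveI : Algebra.Smooth Γ(W, q ⁻¹ᵁ A) Γ(U, U₁) := u.smooth_appLE hA₀ hU₁ hle
  obtain ⟨s, hs, hsm⟩ := Algebra.Smooth.exists_span_eq_top_isStandardSmooth Γ(W, q ⁻¹ᵁ A) Γ(U, U₁)
  obtain ⟨y, hy⟩ : z ∈ Set.range hU₁.fromSpec := by rw [hU₁.range_fromSpec]; exact hzU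
  obtain ⟨g, hg, hyg⟩ : ∃ g ∈ s, g ∉ y.asIdeal := by
    by_contra! hall
    exact y.isPrime.ne_top (top_le_iff.1 (hs ▸ Ideal.span_le.2 hall))
  let iB := Spec.map (CommRingCat.ofHom (algebraMap Γ(U, U₁) (Localization.Away g))) ≫ hU₁.fromSpec
  refine hasLocalLift_of_ring (Q := fun {R S} _ _ f => RingHom.Smooth f) ?_ q u z (q.app A).hom
    ((algebraMap Γ(U, U₁) (Localization.Away g)).comp m₀) hA.fromSpec hA₀.fromSpec iB
    (SpecMap_app_fromSpec q hA hA₀) ?_ (range_fromSpec_preimage q hA hA₀) ?_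
    (hasLift_standardSmooth _ (q.app_surjective A hA) _ ?_)
  · intro R S _ _ f V i _ hf
    haveI : Smooth (Spec.map (CommRingCat.ofHom f)) :=
      (HasRingHomProperty.Spec_iff (P := @Smooth)).2 hf
    infer_instance
  · rw [CommRingCat.ofHom_comp, Spec.map_comp, Category.assoc, Category.assoc]
    exact congrArg (_ ≫ ·) (IsAffineOpen.SpecMap_appLE_fromSpec u hA₀ hU₁ hle)
  · obtain ⟨y', hy'⟩ : y ∈ Set.range (PrimeSpectrum.comap
        (algebraMap Γ(U, U₁) (Localization.Away g))) := by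
      rw [PrimeSpectrum.localization_away_comap_range (Localization.Away g) g]; exact hyg
    refine ⟨y', ?_⟩
    rw [← hy, ← hy']
    rfl
  · exact RingHom.isStandardSmooth_algebraMap.2 (hsm g hg)

theorem mem_of_overEquiv {X : Scheme.{u}} {Y T : Over X} (S : Sieve Y) (G : T ⟶ Y)
    (h : (Sieve.overEquiv Y S).arrows G.left) : S G := by
  have h1 := (Sieve.overEquiv_iff S G.left).1 h
  have e : G = (Over.homMk (𝟙 T.left) (by simp) : T ⟶ Over.mk (G.left ≫ Y.hom)) ≫
      (Over.homMk G.left rfl : Over.mk (G.left ≫ Y.hom) ⟶ Y) := by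
    ext; simp
  rw [e]
  exact S.downward_closed h1 _

instance : MorphismProperty.IsMultiplicative @Smooth.{u} where
  id_mem _ := inferInstance

theorem isEmpty_pullback {V X Y : Scheme.{u}} (v : V ⟶ Y) (f : X ⟶ Y) (O : V.Opens)
    (hO : ∀ x ∈ O, x ∉ Set.range (pullback.fst v f)) : IsEmpty ↥(pullback (O.ι ≫ v) f) := by
  refine ⟨fun y => ?_⟩
  let π₁ : pullback (O.ι ≫ v) f ⟶ O.toScheme := pullback.fst _ _
  let t : pullback (O.ι ≫ v) f ⟶ pullback v f :=
    pullback.lift (π₁ ≫ O.ι) (pullback.snd _ _) (by rw [Category.assoc, pullback.condition])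
  have ht : t ≫ pullback.fst v f = π₁ ≫ O.ι := pullback.lift_fst _ _ _
  refine hO (O.ι (π₁ y)) ?_ ⟨t y, by rw [← Scheme.Hom.comp_apply, ht, Scheme.Hom.comp_apply]⟩
  have h : O.ι (π₁ y) ∈ Set.range O.ι := ⟨_, rfl⟩
  rwa [Scheme.Opens.range_ι] at h

/-- Pullback along a closed immersion is almost cocontinuous when coverings lift locally. -/
theorem isAlmostCocontinuous (P : MorphismProperty Scheme.{u}) [P.IsStableUnderBaseChange]
    [P.IsMultiplicative] (hop : ∀ {U V : Scheme.{u}} (i : U ⟶ V) [IsOpenImmersion i], P i)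
    (hlift : ∀ {W V U : Scheme.{u}} (q : W ⟶ V) [IsClosedImmersion q] (u : U ⟶ W),
      P u → ∀ z, HasLocalLift P q u z)
    {X Y : Scheme.{u}} (f : X ⟶ Y) [IsClosedImmersion f] :
    BigSite.IsAlmostCocontinuous (Over.pullback f) (QuotSh.J (Scheme.precoverage P) Y)
      (QuotSh.J (Scheme.precoverage P) X) := by
  intro V R hR
  rw [GrothendieckTopology.mem_over_iff] at hR
  obtain ⟨𝒰, h𝒰⟩ := Scheme.exists_cover_of_mem_grothendieckTopology (P := P) hR
  let W : Scheme.{u} := pullback V.hom f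
  let q : W ⟶ V.left := pullback.fst V.hom f
  let R' : Sieve V :=
    { arrows := fun T g => IsEmpty ↥((Over.pullback f).obj T).left ∨ R ((Over.pullback f).map g)
      downward_closed := fun {T T' g} hg k => by
        rcases hg with hg | hg
        · exact Or.inl (Function.isEmpty ((Over.pullback f).map k).left)
        · refine Or.inr ?_
          rw [Functor.map_comp]
          exact R.downward_closed hg _ }
  refine ⟨R', ?_, fun T g hg => hg.imp (fun he => ?_) id⟩
  · rw [GrothendieckTopology.mem_over_iff]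
    have hpt : ∀ v : V.left, ∃ (Z : Scheme.{u}) (g : Z ⟶ V.left), P g ∧ v ∈ Set.range g ∧
        R' (Over.homMk g rfl : Over.mk (g ≫ V.hom) ⟶ V) := by
      intro v
      by_cases hv : v ∈ Set.range q
      · obtain ⟨w, rfl⟩ := hv
        obtain ⟨i, z, hz⟩ := 𝒰.exists_eq w
        obtain ⟨Z, g, h, hg, hh, hmem⟩ := hlift q (𝒰.f i) (𝒰.map_prop i) z
        refine ⟨Z, g, hg, by rwa [← hz], Or.inr ?_⟩
        let G : Over.mk (g ≫ V.hom) ⟶ V := Over.homMk g rfl
        let t : pullback (g ≫ V.hom) f ⟶ pullback q g :=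
          pullback.lift ((Over.pullback f).map G).left (pullback.fst (g ≫ V.hom) f) (by
            exact pullback.lift_fst _ _ _)
        have hfac : ((Over.pullback f).map G).left = (t ≫ h) ≫ 𝒰.f i := by
          rw [Category.assoc, hh]
          exact (pullback.lift_fst _ _ _).symm
        have hi : (Sieve.overEquiv _ R).arrows ((t ≫ h) ≫ 𝒰.f i) :=
          (Sieve.overEquiv _ R).downward_closed (h𝒰 _ _ ⟨i⟩) _
        rw [← hfac] at hi
        exact mem_of_overEquiv R ((Over.pullback f).map G) hi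
      · let O : V.left.Opens := ⟨(Set.range q)ᶜ, q.isClosedEmbedding.isClosed_range.isOpen_compl⟩
        exact ⟨O.toScheme, O.ι, hop _, by rw [Scheme.Opens.range_ι]; exact hv,
          Or.inl (isEmpty_pullback V.hom f O fun x hx hr => hx hr)⟩
    choose Z g hg hv hR' using hpt
    refine GrothendieckTopology.superset_covering _ ?_
      (Precoverage.generate_mem_toGrothendieck (R := Presieve.ofArrows Z g)
        ((Scheme.ofArrows_mem_precoverage_iff P).2 ⟨fun v => ⟨v, hv v⟩, fun v => hg v⟩))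
    rw [Sieve.generate_le_iff]
    rintro _ _ ⟨v⟩
    exact (Sieve.overEquiv_iff R' (g v)).2 (hR' v)
  · rw [GrothendieckTopology.mem_over_iff]
    haveI := he
    refine GrothendieckTopology.superset_covering _ ?_
      (Scheme.bot_mem_grothendieckTopology (P := P) ((Over.pullback f).obj T).left)
    exact bot_le

theorem isAlmostCocontinuous_etale_or_smooth {X Y : Scheme.{u}} (f : X ⟶ Y) [IsClosedImmersion f]
    (K : Precoverage Scheme.{u})
    (hK : K = Scheme.etalePrecoverage ∨ K = Scheme.precoverage @Smooth) :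
    BigSite.IsAlmostCocontinuous (Over.pullback f) (QuotSh.J K Y) (QuotSh.J K X) := by
  rcases hK with rfl | rfl
  · exact isAlmostCocontinuous @Etale (fun i _ => inferInstance)
      (fun q _ u hu z => haveI : Etale u := hu; hasLocalLift_etale q u z) f
  · exact isAlmostCocontinuous @Smooth (fun i _ => inferInstance)
      (fun q _ u hu z => haveI : Smooth u := hu; hasLocalLift_smooth q u z) f

end Groth.Agent.LiftClosed
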